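import Groth.Agent.FixLift.Local
import Groth.Agent.ConjInt.Global

/-!
A point fixed modulo a square-zero ideal by a group of multiplicative type is congruent to a fixed point.
-/

universe u

open CategoryTheory Limits MonoidalCategory CartesianMonoidalCategory MonObj GrpObj AlgebraicGeometry
open CoactBr Groth.Agent.DiagGrp Groth.Agent.DiagAction Groth.Agent.ConjInt

set_option backward.isDefEq.respectTransparency false

noncomputable section

namespace Groth.Agent.FixLift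

variable {R : Type u} [CommRing R] {H X : Over (Spec (CommRingCat.of R))} [GrpObj H] {J : Ideal R}

theorem isAvg_compat {ρ : AlgGrp.Action H X} {x : 𝟙_ (Over (Spec (CommRingCat.of R))) ⟶ X} {hJ : J ^ 2 = ⊥}
    {A A' : Type u} [CommRing A] [CommRing A'] [Algebra R A] [Algebra R A'] {M M' : Type} [CommGroup M] [CommGroup M']
    {c : Chart H A M} {c' : Chart H A' M'} {a : sp R A ⟶ X} {a' : sp R A' ⟶ X} (ha : IsAvg J ρ x hJ c a)
    (ha' : IsAvg J ρ x hJ c' a') (D : Type u) [CommRing D] [Algebra R D] (f : A →ₐ[R] D) (f' : A' →ₐ[R] D) :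
    pt f ≫ a = pt f' ≫ a' := by
  letI : Algebra A D := f.toRingHom.toAlgebra
  letI : Algebra A' D := f'.toRingHom.toAlgebra
  haveI : IsScalarTower R A D := IsScalarTower.of_algebraMap_eq fun r => (f.commutes r).symm
  haveI : IsScalarTower R A' D := IsScalarTower.of_algebraMap_eq fun r => (f'.commutes r).symm
  exact (ha.map (D := D)).chart_eq (ha'.map (D := D))

theorem exists_fixed_lift (hJ : J ^ 2 = ⊥)
    (hH : TwC.Locally (Spec (CommRingCat.of R)) TwC.Topology.fpqc (fun S' f => ∃ (M : Type) (_ : AddCommGroup M), Nonempty (Grp.mk (Red.bc f H) ≅ Grp.mk (Red.DS S' M))))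
    (ρ : AlgGrp.Action H X) (x : 𝟙_ (Over (Spec (CommRingCat.of R))) ⟶ X)
    (hfix : ∀ (B : Type u) [CommRing B] [Algebra R B], (∀ r ∈ J, algebraMap R B r = 0) →
      ∀ h : sp R B ⟶ H, actT ρ h (toUnit _ ≫ x) = toUnit _ ≫ x) :
    ∃ y : 𝟙_ (Over (Spec (CommRingCat.of R))) ⟶ X,
      toUnit (Over.mk (Spec.map (CommRingCat.ofHom (Ideal.Quotient.mk J))) : Over (Spec (CommRingCat.of R))) ≫ y =
        toUnit _ ≫ x ∧
      ∀ (Y : Over (Spec (CommRingCat.of R))) (h : Y ⟶ H), actT ρ h (toUnit Y ≫ y) = toUnit Y ≫ y := by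
  classical
  obtain ⟨S', f, hflat, hsurj, hcov, hloc⟩ := hH
  haveI : Flat f := hflat
  let e₀ : Spec (CommRingCat.of R) ⟶ X.left := x.left
  have hloc' : ∀ s : S', ∃ (V : S'.Opens) (hV : IsAffineOpen V) (M : Type) (_ : AddCommGroup M) (W : X.left.Opens),
      s ∈ V ∧ IsAffineOpen W ∧ Set.range (hV.fromSpec ≫ f ≫ e₀) ⊆ W ∧
      Nonempty (Grp.mk (Red.bc (hV.fromSpec ≫ f) H) ≅
        Grp.mk (sp Γ(S', V) (MonoidAlgebra Γ(S', V) (Multiplicative M)))) := by
    intro s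
    obtain ⟨U, hsU, M, _, hE⟩ := hloc s
    obtain ⟨_, ⟨W, hW, rfl⟩, hsW, -⟩ := X.left.isBasis_affineOpens.exists_subset_of_mem_open
      (Set.mem_univ ((f ≫ e₀) s)) isOpen_univ
    obtain ⟨_, ⟨V, hV, rfl⟩, hsV, hVU⟩ := S'.isBasis_affineOpens.exists_subset_of_mem_open
      (show s ∈ (U : Set S') ∩ ((f ≫ e₀) ⁻¹ᵁ W : Set S') from ⟨hsU, hsW⟩) (U.isOpen.inter ((f ≫ e₀) ⁻¹ᵁ W).isOpen)
    replace hV : IsAffineOpen V := hV
    let j : Spec (CommRingCat.of Γ(S', V)) ⟶ U := IsOpenImmersion.lift U.ι hV.fromSpec (by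
      intro z hz; exact (Scheme.Opens.range_ι U).ge (hVU (hV.range_fromSpec.le hz)).1)
    refine ⟨V, hV, M, inferInstance, W, hsV, hW, ?_,
      exists_chart_affine j (U.ι ≫ f) (hV.fromSpec ≫ f) (by rw [← Category.assoc, IsOpenImmersion.lift_fac]) H hE⟩
    rintro _ ⟨y, rfl⟩
    exact (hVU (hV.range_fromSpec.le ⟨y, rfl⟩)).2
  choose V hV M hM W hsV hW hrW hE using hloc'
  obtain ⟨Wc, hWc, himg⟩ := hcov ⊤ (isAffineOpen_top _)
  obtain ⟨t, ht⟩ := hWc.elim_finite_subcover (fun s => (V s : Set S')) (fun s => (V s).isOpen)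
    fun s _ => Set.mem_iUnion.mpr ⟨s, hsV s⟩
  let A : t → Type u := fun i => Γ(S', V i.1)
  let ψ : ∀ i : t, CommRingCat.of R ⟶ Γ(S', V i.1) := fun i => Spec.preimage ((hV i.1).fromSpec ≫ f)
  letI : ∀ i, Algebra R (A i) := fun i => (ψ i).hom.toAlgebra
  have hstr : ∀ i : t, str R (A i) = (hV i.1).fromSpec ≫ f := fun i => Spec.map_preimage _
  let π := covπ (R := R) A
  haveI hπf : Flat π := by
    refine IsZariskiLocalAtSource.sigmaDesc fun i => ?_
    show Flat (str R (A i))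
    rw [hstr]
    infer_instance
  haveI hπs : Surjective π := ⟨fun y => by
    obtain ⟨s, hs, rfl⟩ : y ∈ f.base '' (Wc : Set S') := himg.ge trivial
    obtain ⟨i, hi, hsi⟩ := Set.mem_iUnion₂.mp (ht hs)
    obtain ⟨p, hp⟩ := (hV i).range_fromSpec.ge hsi
    refine ⟨Sigma.ι (fun i => Spec (CommRingCat.of (A i))) ⟨i, hi⟩ p, ?_⟩
    rw [← Scheme.Hom.comp_apply, Sigma.ι_desc]
    show str R (A ⟨i, hi⟩) p = _
    rw [hstr]
    exact congrArg f hp⟩
  haveI : Finite t := inferInstance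
  haveI hπq : QuasiCompact π := inferInstance
  letI : ∀ x, AddCommGroup (M x) := hM
  have hca : ∀ i : t, ∃ (c : Chart H (A i) (Multiplicative (M i.1))) (a : sp R (A i) ⟶ X), IsAvg J ρ x hJ c a :=
    fun i => by
    obtain ⟨e₁⟩ := bc_congr_grp (hstr i) H
    obtain ⟨e₂⟩ := hE i.1
    obtain ⟨c⟩ := exists_chart (A i) ⟨e₁ ≪≫ e₂⟩
    refine ⟨c, exists_isAvg J ρ x hJ hfix c (hW i.1) ?_⟩
    rw [Over.comp_left, show (toUnit (sp R (A i))).left = (hV i.1).fromSpec ≫ f from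
      ((Category.comp_id _).symm.trans (Over.w (toUnit (sp R (A i))))).trans (hstr i), Category.assoc]
    exact hrW i.1
  choose c a ha using hca
  let σ : (∐ fun i => Spec (CommRingCat.of (A i))) ⟶ X.left := Sigma.desc fun i => (a i).left
  have hσ : ∀ (i : t) (D : Type u) [CommRing D] [Algebra R D] (φ : A i →ₐ[R] D),
      (pt φ).left ≫ Sigma.ι (fun i => Spec (CommRingCat.of (A i))) i ≫ σ = (pt φ ≫ a i).left := fun i D _ _ φ => by
    rw [Sigma.ι_desc, Over.comp_left]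
  have hcompat : ∀ {Z : Scheme.{u}} (g₁ g₂ : Z ⟶ ∐ fun i => Spec (CommRingCat.of (A i))),
      g₁ ≫ π = g₂ ≫ π → g₁ ≫ σ = g₂ ≫ σ := by
    intro Z g₁ g₂ h12
    refine hom_ext_local _ _ fun z => ?_
    obtain ⟨i', U', hzU', hU'⟩ := exists_component A g₂ z
    obtain ⟨i, D, _, _, k, φ, hk, hzk, hkU, hks, hkg⟩ := exists_refine (R := R) A g₁ U' z hzU'
    let ι' := Sigma.ι (fun i => Spec (CommRingCat.of (A i))) i'
    have hr : Set.range (k ≫ g₂) ⊆ Set.range ι' := by
      rintro _ ⟨y, rfl⟩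
      exact hU' ⟨⟨k y, hkU ⟨y, rfl⟩⟩, rfl⟩
    have hl := IsOpenImmersion.lift_fac ι' (k ≫ g₂) hr
    obtain ⟨φ', hφ'⟩ := exists_algHom (IsOpenImmersion.lift ι' (k ≫ g₂) hr) (by
      rw [← Sigma.ι_desc (fun i => Spec.map (CommRingCat.ofHom (algebraMap R (A i)))) i', ← Category.assoc, hl, Category.assoc]
      show k ≫ g₂ ≫ π = _
      rw [← h12]
      exact hks)
    refine ⟨_, k, hk, hzk, ?_⟩
    rw [← Category.assoc, hkg, ← Category.assoc, ← hl, hφ', Category.assoc, Category.assoc, hσ, hσ,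
      isAvg_compat (ha i) (ha i') D φ φ']
  let gL : Spec (CommRingCat.of R) ⟶ X.left := EffectiveEpi.desc π σ hcompat
  have hgL : π ≫ gL = σ := EffectiveEpi.fac π σ hcompat
  let g : 𝟙_ (Over (Spec (CommRingCat.of R))) ⟶ X := Over.homMk gL (by
    show gL ≫ X.hom = 𝟙 _
    rw [← cancel_epi π, reassoc_of% hgL, Category.comp_id]
    refine Sigma.hom_ext _ _ fun i => ?_
    rw [Sigma.ι_desc_assoc, Sigma.ι_desc]
    exact Over.w (a i))
  have hg : ∀ (i : t) (D : Type u) [CommRing D] [Algebra R D] (φ : A i →ₐ[R] D),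
      toUnit (sp R D) ≫ g = pt φ ≫ a i := by
    intro i D _ _ φ
    apply Over.OverMorphism.ext
    rw [← hσ i D φ, ← hgL, Sigma.ι_desc_assoc, Over.comp_left]
    rw [show (toUnit (sp R D)).left = Spec.map (CommRingCat.ofHom (algebraMap R D)) from
      (Category.comp_id _).symm.trans (Over.w (toUnit (sp R D))), ← φ.comp_algebraMap, CommRingCat.ofHom_comp,
      Spec.map_comp, Category.assoc, pt_left]
    rfl
  refine ⟨g, cover_ext A _ _ fun D _ _ i φ z => ?_, fun Y h => cover_ext A _ _ fun D _ _ i φ z => ?_⟩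
  · rw [← Category.assoc, ← Category.assoc, toUnit_unique (z ≫ toUnit _) (toUnit _), hg i D φ]
    refine (ha i).mod D (fun r hr => ?_) φ
    have e' : CommRingCat.ofHom (Ideal.Quotient.mk J) ≫ Spec.preimage z.left = CommRingCat.ofHom (algebraMap R D) :=
      Spec.map_injective (by rw [Spec.map_comp, Spec.map_preimage]; exact Over.w z)
    have e2 := congrArg (fun s => s.hom r) e'
    simp only [CommRingCat.hom_comp, CommRingCat.hom_ofHom, RingHom.comp_apply,
      Ideal.Quotient.eq_zero_iff_mem.mpr hr, map_zero] at e2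
    exact e2.symm
  · rw [comp_actT, ← Category.assoc z, toUnit_unique (z ≫ toUnit _) (toUnit _), hg i D φ]
    exact (ha i).fixed D φ (z ≫ h)

end Groth.Agent.FixLift
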