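import Groth.Agent.ConjInt.Conj
import Groth.Agent.DiagAction.Local

/-!
Averaging an orbit map which is constant modulo a square-zero ideal: the local fixed lift.
-/

universe u

open CategoryTheory Limits MonoidalCategory CartesianMonoidalCategory MonObj GrpObj AlgebraicGeometry
open CoactBr Groth.Agent.DiagGrp Groth.Agent.DiagAction Groth.Agent.ConjInt

set_option backward.isDefEq.respectTransparency false

noncomputable section

namespace Groth.Agent.FixLift

variable {R : Type u} [CommRing R] {H X : Over (Spec (CommRingCat.of R))} [GrpObj H] {J : Ideal R}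
variable {A : Type u} [CommRing A] [Algebra R A] {M : Type} [CommGroup M]

/-- A point congruent to a point with image in an affine open is defined over `A + J A[M]`. -/
theorem exists_thick_factor (hJ : J ^ 2 = ⊥) (d : sp R (MonoidAlgebra A M) ⟶ X) (y : sp R A ⟶ X)
    (hd : pt (Ideal.Quotient.mkₐ R (JP J A M)) ≫ d =
      pt ((Ideal.Quotient.mkₐ R (JP J A M)).comp (IsScalarTower.toAlgHom R A (MonoidAlgebra A M))) ≫ y)
    {W : X.left.Opens} (hW : IsAffineOpen W) (hr : Set.range y.left ⊆ W) :
    ∃ g : sp R (Cs J A M) ⟶ X, ptR R (Cs J A M).val ≫ g = d := by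
  let q := Ideal.Quotient.mkₐ R (JP J A M)
  let k : A →ₐ[R] (MonoidAlgebra A M ⧸ JP J A M) := q.comp (IsScalarTower.toAlgHom R A (MonoidAlgebra A M))
  have hq : pt q ≫ d = pt k ≫ y := hd
  have hrd : Set.range d.left ⊆ W := by
    rintro _ ⟨z, rfl⟩
    obtain ⟨z', rfl⟩ : z ∈ Set.range (pt q).left := by
      rw [pt_left]
      have hle : JP J A M ≤ (z : PrimeSpectrum (MonoidAlgebra A M)).asIdeal := fun r hr => by
        refine (z : PrimeSpectrum (MonoidAlgebra A M)).isPrime.mem_of_pow_mem 2 ?_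
        have : r ^ 2 ∈ JP J A M ^ 2 := Ideal.pow_mem_pow hr 2
        rw [sq_map J hJ, Ideal.mem_bot] at this
        rw [this]
        exact zero_mem _
      have h1 : Set.range (PrimeSpectrum.comap q.toRingHom) = PrimeSpectrum.zeroLocus (JP J A M : Set (MonoidAlgebra A M)) := by
        show Set.range (PrimeSpectrum.comap (Ideal.Quotient.mk (JP J A M))) = _
        rw [range_comap_of_surjective _ _ Ideal.Quotient.mk_surjective, Ideal.mk_ker]
      exact h1.ge hle
    rw [← Scheme.Hom.comp_apply, ← Over.comp_left, hq]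
    exact hr ⟨(pt k).left z', rfl⟩
  let l := IsOpenImmersion.lift hW.fromSpec d.left (hrd.trans hW.range_fromSpec.ge)
  let le := IsOpenImmersion.lift hW.fromSpec y.left (hr.trans hW.range_fromSpec.ge)
  let φ := Spec.preimage l
  let φe := Spec.preimage le
  have hφ : φ ≫ CommRingCat.ofHom q.toRingHom = φe ≫ CommRingCat.ofHom k.toRingHom := by
    apply Spec.map_injective
    rw [Spec.map_comp, Spec.map_comp, Spec.map_preimage, Spec.map_preimage, ← cancel_mono hW.fromSpec]
    simp only [Category.assoc, l, le, IsOpenImmersion.lift_fac]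
    have e := congrArg CommaMorphism.left hq
    simp only [Over.comp_left, pt_left] at e
    exact e
  let φ' : Γ(X.left, W) →+* Cs J A M := φ.hom.codRestrict (Cs J A M).toSubring fun x => by
    refine ⟨φe.hom x, ?_⟩
    rw [← Ideal.Quotient.eq]
    exact congrArg (fun f => f.hom x) hφ
  have hfac : Spec.map (CommRingCat.ofHom (Cs J A M).val.toRingHom) ≫ Spec.map (CommRingCat.ofHom φ') ≫ hW.fromSpec =
      d.left := by
    rw [← Spec.map_comp_assoc]
    rw [show CommRingCat.ofHom φ' ≫ CommRingCat.ofHom (Cs J A M).val.toRingHom = φ from rfl, Spec.map_preimage,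
      IsOpenImmersion.lift_fac]
  let g : sp R (Cs J A M) ⟶ X := Over.homMk (Spec.map (CommRingCat.ofHom φ') ≫ hW.fromSpec) (by
    refine hom_ext_of_injective (Cs J A M).val.toRingHom Subtype.val_injective
      (surjective_comap_thick (aug A M) (sq_map J hJ)) _ _ ?_
    rw [← Category.assoc, hfac]
    refine (Over.w d).trans ?_
    show Spec.map _ = Spec.map _ ≫ Spec.map _
    rw [← Spec.map_comp]
    rfl)
  refine ⟨g, ?_⟩
  apply Over.OverMorphism.ext
  simp only [Over.comp_left, ptR, pt_left]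
  exact hfac

variable (J) (ρ : AlgGrp.Action H X) (x : 𝟙_ (Over (Spec (CommRingCat.of R))) ⟶ X)

/-- the orbit map in a chart -/
def orb (c : Chart H A M) : sp R (MonoidAlgebra A M) ⟶ X := actT ρ c.χ (toUnit _ ≫ x)

/-- `a` is the average of the orbit of `x` -/
def IsAvg (hJ : J ^ 2 = ⊥) (c : Chart H A M) (a : sp R A ⟶ X) : Prop :=
  ∃ g : sp R (Cs J A M) ⟶ X, ptR R (Cs J A M).val ≫ g = orb ρ x c ∧ a = ptR R (intC A M hJ) ≫ g

variable (hJ : J ^ 2 = ⊥)
  (hfix : ∀ (B : Type u) [CommRing B] [Algebra R B], (∀ r ∈ J, algebraMap R B r = 0) →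
    ∀ h : sp R B ⟶ H, actT ρ h (toUnit _ ≫ x) = toUnit _ ≫ x)

include hfix in
theorem exists_isAvg (c : Chart H A M) {W : X.left.Opens} (hW : IsAffineOpen W)
    (hr : Set.range (toUnit (sp R A) ≫ x).left ⊆ W) : ∃ a, IsAvg J ρ x hJ c a := by
  obtain ⟨g, hg⟩ := exists_thick_factor hJ (orb ρ x c) (toUnit _ ≫ x) (by
    rw [orb, comp_actT, ← Category.assoc, toUnit_unique (pt _ ≫ toUnit _) (toUnit _), hfix _ (fun r hr => by
      rw [IsScalarTower.algebraMap_apply R (MonoidAlgebra A M) (MonoidAlgebra A M ⧸ JP J A M),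
        Ideal.Quotient.algebraMap_eq, Ideal.Quotient.eq_zero_iff_mem]
      exact Ideal.mem_map_of_mem _ hr), ← Category.assoc, toUnit_unique (pt _ ≫ toUnit _) (toUnit _)]) hW hr
  exact ⟨_, g, hg, rfl⟩

variable {J ρ x hJ}

theorem IsAvg.mod {c : Chart H A M} {a : sp R A ⟶ X} (ha : IsAvg J ρ x hJ c a) (B : Type u) [CommRing B] [Algebra R B]
    (hB : ∀ r ∈ J, algebraMap R B r = 0) (f : A →ₐ[R] B) : pt f ≫ a = toUnit _ ≫ x := by
  obtain ⟨g, hg, rfl⟩ := ha
  have hz : ∀ z ∈ J.map (algebraMap R A), f z = 0 := by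
    intro z hz
    have : J.map (algebraMap R A) ≤ RingHom.ker f := Ideal.map_le_iff_le_comap.mpr fun r hr => by
      show f (algebraMap R A r) = 0
      rw [f.commutes, hB r hr]
    exact this hz
  have e : f.comp ((intC A M hJ).restrictScalars R) =
      f.comp (((aug A M).comp (Cs J A M).val).restrictScalars R) := by
    refine AlgHom.ext fun z => ?_
    obtain ⟨z, a, ha⟩ := z
    show f (z.coeff 1) = f (aug A M z)
    have h1 := hz _ (coeff_mem J A M ha 1)
    have h2 : aug A M (z - algebraMap A _ a) ∈ J.map (algebraMap R A) := by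
      have := Ideal.mem_map_of_mem (aug A M).toRingHom ha
      have e1 : (aug A M).toRingHom.comp (algebraMap R (MonoidAlgebra A M)) = algebraMap R A :=
        ((aug A M).restrictScalars R).comp_algebraMap
      rw [Ideal.map_map, e1] at this
      exact this
    have h2' := hz _ h2
    simp only [MonoidAlgebra.coeff_sub, MonoidAlgebra.coe_algebraMap, Function.comp_apply, MonoidAlgebra.coeff_single,
      Algebra.algebraMap_self, RingHom.id_apply, Finsupp.sub_apply, Finsupp.single_eq_same, map_sub, sub_eq_zero] at h1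
    rw [map_sub, AlgHom.commutes, map_sub, sub_eq_zero] at h2'
    exact h1.trans h2'.symm
  calc pt f ≫ ptR R (intC A M hJ) ≫ g = (pt f ≫ pt ((intC A M hJ).restrictScalars R)) ≫ g := (Category.assoc _ _ _).symm
    _ = pt (f.comp (((aug A M).comp (Cs J A M).val).restrictScalars R)) ≫ g := by rw [← pt_comp, e]
    _ = pt f ≫ ptR R (aug A M) ≫ ptR R (Cs J A M).val ≫ g := by
      rw [pt_comp, Category.assoc, show (((aug A M).comp (Cs J A M).val).restrictScalars R) =
        ((aug A M).restrictScalars R).comp ((Cs J A M).val.restrictScalars R) from rfl, pt_comp, Category.assoc]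
    _ = toUnit _ ≫ x := by
      rw [hg, orb, comp_actT, c.one, actT_one, ← Category.assoc, ← Category.assoc]
      exact congrArg (· ≫ x) (toUnit_unique _ _)

theorem IsAvg.fixed_univ {c : Chart H A M} {a : sp R A ⟶ X} (ha : IsAvg J ρ x hJ c a) :
    actT ρ c.χ (pt (IsScalarTower.toAlgHom R A (MonoidAlgebra A M)) ≫ a) =
      pt (IsScalarTower.toAlgHom R A (MonoidAlgebra A M)) ≫ a := by
  obtain ⟨g, hg, rfl⟩ := ha
  let x1 : MonoidAlgebra A M →ₐ[A] MonoidAlgebra (MonoidAlgebra A M) M :=
    IsScalarTower.toAlgHom A (MonoidAlgebra A M) (MonoidAlgebra (MonoidAlgebra A M) M)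
  let x2 : MonoidAlgebra A M →ₐ[A] MonoidAlgebra (MonoidAlgebra A M) M :=
    MonoidAlgebra.lift A _ M (MonoidAlgebra.of (MonoidAlgebra A M) M)
  let x12 := conv x1 x2
  have hf₀ : ∀ (f : MonoidAlgebra A M →ₐ[A] MonoidAlgebra (MonoidAlgebra A M) M) (r : A),
      f.restrictScalars R (algebraMap A (MonoidAlgebra A M) r) = algebraMap (MonoidAlgebra A M)
        (MonoidAlgebra (MonoidAlgebra A M) M) (IsScalarTower.toAlgHom R A (MonoidAlgebra A M) r) := fun f r => by
    show f (algebraMap A (MonoidAlgebra A M) r) = _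
    rw [f.commutes, IsScalarTower.algebraMap_apply A (MonoidAlgebra A M) (MonoidAlgebra (MonoidAlgebra A M) M)]
    rfl
  let res := fun f : MonoidAlgebra A M →ₐ[A] MonoidAlgebra (MonoidAlgebra A M) M =>
    thickMap J (f.restrictScalars R) fun r => ⟨_, hf₀ f r⟩
  let C' : Subalgebra (MonoidAlgebra A M) (MonoidAlgebra (MonoidAlgebra A M) M) := Cs J (MonoidAlgebra A M) M
  let b := baseP J (MonoidAlgebra A M) (MonoidAlgebra (MonoidAlgebra A M) M)
  have hr : ∀ f, ptR R C'.val ≫ pt (res f) ≫ g = ptR R f ≫ orb ρ x c := fun f => by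
    simp only [res, C']
    rw [← Category.assoc, val_thickMap, Category.assoc, hg]
  have hval : ∀ {Y : Over (Spec (CommRingCat.of R))} (t : sp R (MonoidAlgebra A M) ⟶ Y),
      ptR R C'.val ≫ b ≫ t = ptR R x1 ≫ t := fun t => by
    simp only [C', b]
    rw [← Category.assoc, val_baseC]
    rfl
  have heq : pt (res x12) ≫ g = actT ρ (b ≫ c.χ) (pt (res x2) ≫ g) := by
    refine cancel_val (JP J (MonoidAlgebra A M) M) (aug (MonoidAlgebra A M) M) (sq_map J hJ) ?_
    rw [comp_actT]
    erw [hr x12, hr x2, hval]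
    simp only [orb, comp_actT, x12, c.mul, actT_mul]
    congr 2
    rw [← Category.assoc, ← Category.assoc]
    exact congrArg (· ≫ x) (toUnit_unique _ _)
  have h2 : ∀ m, (x2 (MonoidAlgebra.single m 1)).coeff 1 = IsScalarTower.toAlgHom R A (MonoidAlgebra A M)
      ((MonoidAlgebra.single m (1 : A)).coeff 1) := by
    intro m
    by_cases h : m = 1
    · subst h; simp [x2, MonoidAlgebra.one_def]
    · simp [x2, MonoidAlgebra.of_apply, MonoidAlgebra.coeff_single, Finsupp.single_eq_of_ne' h, h]
  have h12 : ∀ m, (x12 (MonoidAlgebra.single m 1)).coeff 1 = IsScalarTower.toAlgHom R A (MonoidAlgebra A M)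
      ((MonoidAlgebra.single m (1 : A)).coeff 1) := by
    intro m
    by_cases h : m = 1
    · subst h; simp [x12, x1, x2, MonoidAlgebra.one_def]
    · simp [x12, x1, x2, MonoidAlgebra.of_apply, MonoidAlgebra.coeff_single, Finsupp.single_eq_of_ne' h, h]
  let I := ptR R (intC (MonoidAlgebra A M) M hJ)
  have key := congrArg (fun t => I ≫ t) heq
  simp only [comp_actT, I, res, b] at key
  rw [← Category.assoc, int_thickMap hJ _ (x12.restrictScalars R) _ (hf₀ x12) h12, ← Category.assoc (ptR R _) (pt (thickMap J (x2.restrictScalars R) _)),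
    int_thickMap hJ _ (x2.restrictScalars R) _ (hf₀ x2) h2] at key
  simp only [← Category.assoc (ptR R (intC (MonoidAlgebra A M) M hJ)), int_baseC, Category.id_comp] at key
  rw [Category.assoc] at key
  exact key.symm

theorem IsAvg.fixed {c : Chart H A M} {a : sp R A ⟶ X} (ha : IsAvg J ρ x hJ c a) (B : Type u) [CommRing B]
    [Algebra R B] (f : A →ₐ[R] B) (h : sp R B ⟶ H) : actT ρ h (pt f ≫ a) = pt f ≫ a := by
  letI : Algebra A B := f.toRingHom.toAlgebra
  haveI : IsScalarTower R A B := IsScalarTower.of_algebraMap_eq fun r => (f.commutes r).symm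
  obtain ⟨z, rfl⟩ := c.surj B h
  have hz : ptR R z ≫ pt (IsScalarTower.toAlgHom R A (MonoidAlgebra A M)) = pt f := by
    simp only [ptR, ← pt_comp]
    congr 1
    exact AlgHom.ext fun r => z.commutes r
  rw [← hz, Category.assoc, ← comp_actT, ha.fixed_univ]

theorem IsAvg.map {c : Chart H A M} {a : sp R A ⟶ X} (ha : IsAvg J ρ x hJ c a) {D : Type u} [CommRing D]
    [Algebra R D] [Algebra A D] [IsScalarTower R A D] :
    IsAvg J ρ x hJ (c.map (D := D)) (pt (IsScalarTower.toAlgHom R A D) ≫ a) := by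
  obtain ⟨g, hg, rfl⟩ := ha
  have hf₀ : ∀ r : A, (incl A D M).restrictScalars R (algebraMap A (MonoidAlgebra A M) r) =
      algebraMap D (MonoidAlgebra D M) (IsScalarTower.toAlgHom R A D r) := fun r => by
    show incl A D M (algebraMap A (MonoidAlgebra A M) r) = _
    rw [(incl A D M).commutes, IsScalarTower.algebraMap_apply A D (MonoidAlgebra D M)]
    rfl
  refine ⟨pt (thickMap J ((incl A D M).restrictScalars R) fun r => ⟨_, hf₀ r⟩) ≫ g, ?_, ?_⟩
  · rw [← Category.assoc, val_thickMap, Category.assoc, hg]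
    simp only [orb, Chart.map, comp_actT]
    congr 1
    rw [← Category.assoc]
    exact congrArg (· ≫ x) (toUnit_unique _ _)
  · rw [← Category.assoc (ptR R (intC D M hJ)), int_thickMap hJ _ _ _ hf₀, Category.assoc]
    intro m
    by_cases h : m = 1 <;> simp [MonoidAlgebra.coeff_single, Finsupp.single_apply, h]

theorem IsAvg.chart_eq {N : Type} [CommGroup N] {c : Chart H A M} {c' : Chart H A N} {a b : sp R A ⟶ X}
    (ha : IsAvg J ρ x hJ c a) (hb : IsAvg J ρ x hJ c' b) : a = b := by
  obtain ⟨y, hy, hc0⟩ := exists_change c c'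
  obtain ⟨g, hg, rfl⟩ := ha
  obtain ⟨g', hg', rfl⟩ := hb
  have hf₀ : ∀ r : A, y.restrictScalars R (algebraMap A (MonoidAlgebra A M) r) =
      algebraMap A (MonoidAlgebra A N) (AlgHom.id R A r) := fun r => y.commutes r
  have hk : g' = pt (thickMap J (y.restrictScalars R) fun r => ⟨_, hf₀ r⟩) ≫ g := by
    refine cancel_val (JP J A N) (aug A N) (sq_map J hJ) (hg'.trans ?_)
    rw [← Category.assoc, val_thickMap, Category.assoc, hg, orb, orb, comp_actT, ← Category.assoc,
      show pt (y.restrictScalars R) ≫ c.χ = c'.χ from hy]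
    congr 1
    exact congrArg (· ≫ x) (toUnit_unique _ _)
  rw [hk, ← Category.assoc (ptR R (intC A N hJ)), int_thickMap hJ _ _ _ hf₀ hc0, pt_id, Category.id_comp]

end Groth.Agent.FixLift
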