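import Groth.Agent.FixLift.Global
import Groth.Agent.Transporter.LandBasic
import Groth.Prelude.Def_ActBC

/-!
The fixed point scheme of an action of a group of multiplicative type on a separated scheme is closed, and smooth
when the scheme acted upon is.
-/

universe u

open CategoryTheory Limits MonoidalCategory CartesianMonoidalCategory MonObj GrpObj AlgebraicGeometry
open CoactBr Groth.Agent.DiagGrp Groth.Agent.DiagAction Groth.Agent.CentralDescent Groth.Agent.Transporter

set_option backward.isDefEq.respectTransparency false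
set_option linter.style.haveILetI false

noncomputable section

namespace Groth.Agent.FixLift

variable {S : Scheme.{u}} {H X : Over S} [GrpObj H] (ρ : AlgGrp.Action H X)

/-- `x` is fixed by all points of the group after any base change -/
def Fixed {Y : Over S} (x : Y ⟶ X) : Prop :=
  ∀ (Y' : Over S) (p : Y' ⟶ Y) (g : Y' ⟶ H), actT ρ g (p ≫ x) = p ≫ x

theorem downP_actT_bc {S' : Scheme.{u}} (b : S' ⟶ S) {Z : Over S'} (g : Z ⟶ Red.bc b H) (x : Z ⟶ Red.bc b X) :
    downP b (actT (ρ.bc b) g x) = actT ρ (downP b g) (downP b x) := by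
  conv_lhs => rw [← upP_downP b g, ← upP_downP b x]
  rw [actT]
  erw [AlgGrp.Action.lift_homEquiv_bc_act]
  exact downP_upP _ _

theorem exists_fixedLocus (hH : IsMT H) [IsSeparated X.hom] :
    ∃ (T : Over S) (j : T ⟶ X), IsClosedImmersion j.left ∧
      (LocallyOfFiniteType X.hom → LocallyOfFinitePresentation j.left) ∧
      ∀ (Y : Over S) (x : Y ⟶ X), (∃ z : Y ⟶ T, z ≫ j = x) ↔ Fixed ρ x := by
  let t := X.hom
  let gY (Z : Over X.left) : (Over.map t).obj Z ⟶ X := Over.homMk Z.hom
  have hgY : ∀ (Z Z' : Over X.left) (a : Z ⟶ Z'), (Over.map t).map a ≫ gY Z' = gY Z := fun Z Z' a =>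
    Over.OverMorphism.ext (Over.w a)
  let u : Red.bc t H ⟶ Red.bc t X := upP t (actT ρ (downP t (𝟙 _)) (gY _))
  let v : Red.bc t H ⟶ Red.bc t X := upP t (gY _)
  have hu : ∀ (Z : Over X.left) (a : Z ⟶ Red.bc t H), downP t (a ≫ u) = actT ρ (downP t a) (gY Z) := by
    intro Z a
    rw [downP_comp, downP_upP, comp_actT, hgY, ← downP_comp, Category.comp_id]
  have hv : ∀ (Z : Over X.left) (a : Z ⟶ Red.bc t H), downP t (a ≫ v) = gY Z := fun Z a => by
    rw [downP_comp, downP_upP, hgY]
  haveI : IsSeparated (Red.bc t X).hom := inferInstanceAs (IsSeparated (pullback.snd X.hom t))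
  obtain ⟨Z₀, jj, hjj, hfp, hZ⟩ := exists_closed_eqLocus (isMT_bc t H hH) u v
  haveI := hjj
  refine ⟨Over.mk (jj ≫ t), Over.homMk jj, hjj, fun h => ?_, ?_⟩
  · haveI : LocallyOfFiniteType (Red.bc t X).hom := inferInstanceAs (LocallyOfFiniteType (pullback.snd X.hom t))
    exact hfp inferInstance
  intro Y x
  constructor
  · rintro ⟨z, rfl⟩ Y' p g
    let Z : Over X.left := Over.mk (p ≫ z ≫ Over.homMk jj).left
    let i : (Over.map t).obj Z ≅ Y' := Over.isoMk (Iso.refl _)
      ((Category.id_comp _).trans (Over.w (p ≫ z ≫ (Over.homMk jj : Over.mk (jj ≫ t) ⟶ X))).symm)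
    have := congrArg (downP t) ((hZ (z ≫ (Over.homMk jj : Over.mk (jj ≫ t) ⟶ X)).left).mp ⟨z.left, rfl⟩ Z
      (Over.homMk p.left rfl) (upP t (i.hom ≫ g)))
    rw [hu, hv, downP_upP, show gY Z = i.hom ≫ p ≫ z ≫ Over.homMk jj from
      Over.OverMorphism.ext (Category.id_comp _).symm, ← comp_actT] at this
    exact (cancel_epi i.hom).mp this
  · intro hx
    obtain ⟨z, hz⟩ := (hZ x.left).mpr fun W p a => by
      apply (Over.mapPullbackAdj t).homEquiv _ _ |>.symm.injective
      show downP t _ = downP t _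
      let q : (Over.map t).obj W ⟶ Y := Over.homMk p.left (by
        show p.left ≫ Y.hom = W.hom ≫ t
        rw [← Over.w x, ← Category.assoc]
        congr 1
        exact Over.w p)
      rw [hu, hv, show gY W = q ≫ x from Over.OverMorphism.ext (Over.w p).symm]
      exact hx _ q _
    exact ⟨Over.homMk z (by rw [← Over.w x, ← hz, Category.assoc]; rfl), Over.OverMorphism.ext hz⟩

theorem smooth_fixed (hH : IsMT H) [Smooth X.hom] {F : Over S} (j : F ⟶ X) [Mono j.left]
    (hfp : LocallyOfFinitePresentation j.left)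
    (hF : ∀ (Y : Over S) (x : Y ⟶ X), (∃ z : Y ⟶ F, z ≫ j = x) ↔ Fixed ρ x) : Smooth F.hom := by
  haveI := hfp
  refine (Groth.FSmooth.smooth_iff F.hom).mpr ⟨by rw [← Over.w j]; infer_instance, ?_⟩
  intro A _ I hI a b w
  obtain ⟨l₀, hl₀, hl₀t⟩ := ((Groth.FSmooth.smooth_iff X.hom).mp inferInstance).2 A I hI (a ≫ j.left) b
    (by rw [w, Category.assoc, Over.w j])
  let Hr := Red.bc b H
  let X1 : Over S := Over.mk b
  let e : (Over.map b).obj (𝟙_ (Over (Spec (CommRingCat.of A)))) ≅ X1 :=
    Over.isoMk (Iso.refl _) ((Category.id_comp _).trans (Category.id_comp _).symm)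
  let x : 𝟙_ (Over (Spec (CommRingCat.of A))) ⟶ Red.bc b X := upP b (e.hom ≫ (Over.homMk l₀ hl₀t : X1 ⟶ X))
  let M : Over (Spec (CommRingCat.of A)) := Over.mk (Spec.map (CommRingCat.ofHom (Ideal.Quotient.mk I)))
  let g0 : (Over.map b).obj M ⟶ X := Over.homMk (a ≫ j.left) (by
    show (a ≫ j.left) ≫ X.hom = _
    rw [Category.assoc, Over.w j]
    exact w.symm)
  have h0 : Fixed ρ g0 := (hF _ g0).mp ⟨Over.homMk a w.symm, Over.OverMorphism.ext rfl⟩
  have hM : ∀ (Z : Over (Spec (CommRingCat.of A))) (p : Z ⟶ M), downP b (toUnit Z ≫ x) = (Over.map b).map p ≫ g0 := by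
    intro Z p
    rw [← toUnit_unique (p ≫ toUnit M) (toUnit Z), Category.assoc, downP_comp, downP_comp, downP_upP]
    congr 1
    apply Over.OverMorphism.ext
    show (toUnit M).left ≫ 𝟙 _ ≫ l₀ = a ≫ j.left
    rw [Category.id_comp, show (toUnit M).left = Spec.map (CommRingCat.ofHom (Ideal.Quotient.mk I)) from
      (Category.comp_id _).symm.trans (Over.w (toUnit M)), hl₀]
  obtain ⟨y, hy1, hy⟩ := exists_fixed_lift hI (isMT_bc b H hH) (ρ.bc b) x fun B _ _ hB h => by
    apply (Over.mapPullbackAdj b).homEquiv _ _ |>.symm.injective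
    show downP b _ = downP b _
    let p : sp A B ⟶ M :=
      Over.homMk (Spec.map (CommRingCat.ofHom (Ideal.Quotient.lift I (algebraMap A B) hB))) (by
        show Spec.map _ ≫ Spec.map _ = Spec.map _
        rw [← Spec.map_comp, ← CommRingCat.ofHom_comp, Ideal.Quotient.lift_comp_mk])
    rw [downP_actT_bc, hM _ p]
    exact h0 _ _ _
  obtain ⟨z, hz⟩ := (hF X1 (e.inv ≫ downP b y)).mpr fun Y' p g => by
    let Z : Over (Spec (CommRingCat.of A)) := Over.mk p.left
    let i : (Over.map b).obj Z ≅ Y' := Over.isoMk (Iso.refl _) ((Category.id_comp _).trans (Over.w p).symm)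
    have := congrArg (downP b) (hy Z (upP b (i.hom ≫ g)))
    have hp : (Over.map b).map (toUnit Z) = i.hom ≫ p ≫ e.inv := by
      apply Over.OverMorphism.ext
      show (toUnit Z).left = 𝟙 _ ≫ p.left ≫ 𝟙 _
      rw [Category.comp_id, Category.id_comp]
      exact (Category.comp_id _).symm.trans (Over.w (toUnit Z))
    rw [downP_actT_bc, downP_upP, downP_comp, hp, Category.assoc, Category.assoc, ← comp_actT] at this
    exact (cancel_epi i.hom).mp this
  refine ⟨z.left, ?_, Over.w z⟩
  have hz' : z.left ≫ j.left = 𝟙 _ ≫ (downP b y).left := congrArg CommaMorphism.left hz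
  rw [← cancel_mono j.left, Category.assoc, hz', Category.id_comp]
  have h2 := congrArg (downP b) hy1
  rw [hM _ (𝟙 M), CategoryTheory.Functor.map_id, Category.id_comp, downP_comp] at h2
  have h3 := congrArg CommaMorphism.left h2
  simp only [Over.comp_left, Over.map_map_left] at h3
  erw [show (toUnit M).left = Spec.map (CommRingCat.ofHom (Ideal.Quotient.mk I)) from
    (Category.comp_id _).symm.trans (Over.w (toUnit M))] at h3
  exact h3

end Groth.Agent.FixLift
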